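import Groth.Prelude.Def_CAlg2
import Mathlib.RingTheory.IntegralClosure.IsIntegralClosure.Basic
import Mathlib.RingTheory.Localization.Integral
import Mathlib.RingTheory.Spectrum.Prime.RingHom
import Mathlib.RingTheory.LocalRing.ResidueField.Ideal
import Mathlib.RingTheory.Ideal.GoingUp
import Mathlib.Algebra.CharP.Algebra
import Mathlib.RingTheory.LocalProperties.Basic

/-! # Geometrically unibranch local rings through a birational integral normal extension -/

set_option autoImplicit false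
set_option backward.isDefEq.respectTransparency false

universe u

open IsLocalRing

namespace GrothLib.GeomUnib

variable {R T : Type u} [CommRing R] [CommRing T] [IsDomain T] [IsIntegrallyClosed T] (φ : R →+* T)

/-- A normal birational integral extension is the normalization. -/
theorem exists_equiv_normRed (hker : RingHom.ker φ = nilradical R) (hint : φ.IsIntegral)
    (hbir : ∀ t, ∃ a b, φ b ≠ 0 ∧ t * φ b = φ a) :
    IsDomain (CAlg2.red R) ∧ ∃ e : CAlg2.normRed R ≃+* T, ∀ a,
      e (algebraMap (CAlg2.red R) (CAlg2.normRed R) (Ideal.Quotient.mk _ a)) = φ a := by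
  let ψ : CAlg2.red R →+* T := Ideal.Quotient.lift _ φ fun a ha ↦ hker.ge ha
  have hψ : Function.Injective ψ :=
    RingHom.lift_injective_of_ker_le_ideal _ _ hker.le
  haveI : IsDomain (CAlg2.red R) := hψ.isDomain ψ
  refine ⟨inferInstance, ?_⟩
  let L := FractionRing T
  letI : Algebra (CAlg2.red R) T := ψ.toAlgebra
  have hDL : Function.Injective (algebraMap (CAlg2.red R) L) := by
    rw [IsScalarTower.algebraMap_eq (CAlg2.red R) T L]
    exact (IsFractionRing.injective T L).comp hψ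
  haveI : IsFractionRing (CAlg2.red R) L :=
    { map_units := fun d ↦ by
        have hd : (d : CAlg2.red R) ≠ 0 := nonZeroDivisors.coe_ne_zero d
        exact isUnit_iff_ne_zero.mpr ((map_ne_zero_iff _ hDL).mpr hd)
      surj := fun z ↦ by
        obtain ⟨⟨t, s⟩, hz⟩ := IsLocalization.surj (nonZeroDivisors T) z
        obtain ⟨a, b, hb, ha⟩ := hbir t
        obtain ⟨c, d, hd, hc⟩ := hbir s
        have hc0 : φ c ≠ 0 := hc ▸ mul_ne_zero (nonZeroDivisors.coe_ne_zero s) hd
        refine ⟨⟨Ideal.Quotient.mk _ (a * d), Ideal.Quotient.mk _ (b * c),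
          mem_nonZeroDivisors_of_ne_zero fun h ↦ mul_ne_zero hb hc0 (by
            rw [← map_mul]
            exact (congrArg ψ h).trans (map_zero ψ))⟩, ?_⟩
        show z * algebraMap (CAlg2.red R) L (Ideal.Quotient.mk _ (b * c)) =
          algebraMap (CAlg2.red R) L (Ideal.Quotient.mk _ (a * d))
        rw [IsScalarTower.algebraMap_apply (CAlg2.red R) T L, IsScalarTower.algebraMap_apply (CAlg2.red R) T L]
        show z * algebraMap T L (φ (b * c)) = algebraMap T L (φ (a * d))
        rw [map_mul φ, map_mul φ, ← ha, ← hc, map_mul, map_mul, map_mul, map_mul, ← hz]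
        ring
      exists_of_eq := fun {x y} h ↦ ⟨1, by rw [hDL h]⟩ }
  haveI : IsIntegralClosure T (CAlg2.red R) L :=
    ⟨IsFractionRing.injective T L, fun {x} ↦ ⟨fun hx ↦
      (isIntegrallyClosed_iff L).mp inferInstance (hx.tower_top (A := T)), fun ⟨y, hy⟩ ↦ by
      rw [← hy]
      exact (show IsIntegral (CAlg2.red R) y from
        RingHom.IsIntegralElem.of_comp (g := ψ) (f := Ideal.Quotient.mk _) (hint y)).map
          (IsScalarTower.toAlgHom (CAlg2.red R) T L)⟩⟩
  let e₀ : FractionRing (CAlg2.red R) ≃ₐ[CAlg2.red R] L :=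
    IsLocalization.algEquiv (nonZeroDivisors _) _ _
  let e : CAlg2.normRed R ≃ₐ[CAlg2.red R] T :=
    e₀.mapIntegralClosure.trans (IsIntegralClosure.equiv (CAlg2.red R) _ L T)
  exact ⟨e.toRingEquiv, fun a ↦ e.commutes (Ideal.Quotient.mk _ a)⟩

theorem ringExpChar_eq {k₁ k₂ : Type*} [Field k₁] [Field k₂] (g : k₁ →+* k₂) :
    ringExpChar k₂ = ringExpChar k₁ := by
  haveI : ExpChar k₂ (ringExpChar k₁) := expChar_of_injective_ringHom g.injective _
  exact ringExpChar.eq k₂ (ringExpChar k₁)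

/-- Geometric unibranchness read off a normal birational integral extension. -/
theorem isGeomUnibranch_iff_of_normal [IsLocalRing R] (hker : RingHom.ker φ = nilradical R)
    (hint : φ.IsIntegral) (hbir : ∀ t, ∃ a b, φ b ≠ 0 ∧ t * φ b = φ a) :
    CAlg2.IsGeomUnibranch R ↔ IsLocalRing T ∧ ∀ (P : Ideal T) [P.IsMaximal] (x : T ⧸ P),
      ∃ n : ℕ, x ^ ringExpChar (T ⧸ P) ^ n ∈ ((Ideal.Quotient.mk P).comp φ).range := by
  obtain ⟨hd, e, he⟩ := exists_equiv_normRed φ hker hint hbir
  have key : ∀ (P : Ideal (CAlg2.normRed R)) (Q : Ideal T) [P.IsMaximal] [Q.IsMaximal],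
      P = Q.comap e.toRingHom →
      ((∀ x : CAlg2.normRed R ⧸ P, ∃ n : ℕ, x ^ ringExpChar (CAlg2.normRed R ⧸ P) ^ n ∈
        ((Ideal.Quotient.mk P).comp ((algebraMap (CAlg2.red R) (CAlg2.normRed R)).comp
          (Ideal.Quotient.mk (nilradical R)))).range) ↔
      ∀ x : T ⧸ Q, ∃ n : ℕ, x ^ ringExpChar (T ⧸ Q) ^ n ∈ ((Ideal.Quotient.mk Q).comp φ).range) := by
    intro P Q _ _ hPQ
    letI := Ideal.Quotient.field P
    letI := Ideal.Quotient.field Q
    let ε : CAlg2.normRed R ⧸ P ≃+* T ⧸ Q := Ideal.quotientEquiv P Q e (by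
      rw [hPQ]; exact (Ideal.map_comap_of_surjective _ e.surjective Q).symm)
    have hrange : ∀ y, y ∈ ((Ideal.Quotient.mk P).comp ((algebraMap _ _).comp
        (Ideal.Quotient.mk (nilradical R)))).range ↔ ε y ∈ ((Ideal.Quotient.mk Q).comp φ).range := by
      have h1 : ∀ a, ε (Ideal.Quotient.mk P (algebraMap _ _ (Ideal.Quotient.mk (nilradical R) a))) =
          Ideal.Quotient.mk Q (φ a) := fun a ↦ congrArg (Ideal.Quotient.mk Q) (he a)
      exact fun y ↦ ⟨fun ⟨a, ha⟩ ↦ ⟨a, (h1 a).symm.trans (congrArg ε ha)⟩,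
        fun ⟨a, ha⟩ ↦ ⟨a, ε.injective ((h1 a).trans ha)⟩⟩
    rw [← ringExpChar_eq ε.toRingHom]
    refine ⟨fun h x ↦ ?_, fun h x ↦ ?_⟩
    · obtain ⟨n, hn⟩ := h (ε.symm x)
      rw [hrange, map_pow, ε.apply_symm_apply] at hn
      exact ⟨n, hn⟩
    · obtain ⟨n, hn⟩ := h (ε x)
      exact ⟨n, by rw [hrange, map_pow]; exact hn⟩
  constructor
  · rintro ⟨⟨-, _⟩, h⟩
    refine ⟨e.isLocalRing, fun Q _ ↦ ?_⟩
    haveI : (Q.comap e.toRingHom).IsMaximal := Ideal.comap_isMaximal_of_surjective _ e.surjective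
    exact (key _ Q rfl).mp (h _)
  · rintro ⟨_, h⟩
    refine ⟨⟨hd, e.symm.isLocalRing⟩, fun P _ ↦ ?_⟩
    haveI : (P.comap e.symm.toRingHom).IsMaximal :=
      Ideal.comap_isMaximal_of_surjective _ e.symm.surjective
    exact (key P (P.comap e.symm.toRingHom) (by ext x; simp)).mpr (h _)

section

variable {B T' : Type u} [CommRing B] [CommRing T'] [IsDomain T'] [IsIntegrallyClosed T'] (φ : B →+* T')

/-- Geometric unibranchness at a prime read off a normal birational integral extension. -/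
theorem isGeomUnibranch_localization_iff (hker : RingHom.ker φ = nilradical B) (hint : φ.IsIntegral)
    (hbir : ∀ t, ∃ a b, φ b ≠ 0 ∧ t * φ b = φ a) (q : Ideal B) [q.IsPrime] :
    CAlg2.IsGeomUnibranch (Localization.AtPrime q) ↔
      (∀ Q Q' : Ideal T', Q.IsPrime → Q'.IsPrime → Q.comap φ = q → Q'.comap φ = q → Q = Q') ∧
      ∀ Q : Ideal T', Q.IsPrime → Q.comap φ = q → ∀ x : T', ∃ (n : ℕ) (a s : B),
        s ∉ q ∧ φ s * x ^ ringExpChar q.ResidueField ^ n - φ a ∈ Q := by
  set M := q.primeCompl.map (φ : B →* T')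
  let T := Localization M
  have hM : M ≤ nonZeroDivisors T' := by
    rintro _ ⟨s, hs, rfl⟩
    exact mem_nonZeroDivisors_of_ne_zero fun h ↦ hs (nilradical_le_prime q (hker.le h))
  haveI : IsDomain T := IsLocalization.isDomain_localization hM
  haveI : IsIntegrallyClosed T := isIntegrallyClosed_of_isLocalization T M hM
  let Φ : Localization.AtPrime q →+* T :=
    IsLocalization.map T φ (q.primeCompl.le_comap_map : _ ≤ M.comap (φ : B →* T'))
  have hΦ : ∀ b, Φ (algebraMap B _ b) = algebraMap T' T (φ b) := IsLocalization.map_eq _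
  have hinj : Function.Injective (algebraMap T' T) := IsLocalization.injective T hM
  have hΦint : Φ.IsIntegral := isIntegral_localization' hint q.primeCompl
  have hu : ∀ s : q.primeCompl, IsUnit (algebraMap T' T (φ s)) := fun s ↦
    IsLocalization.map_units T (⟨φ s, s, s.2, rfl⟩ : M)
  have hker' : RingHom.ker Φ = nilradical (Localization.AtPrime q) := by
    refine le_antisymm (fun x hx ↦ ?_) fun x hx ↦ ((mem_nilradical.mp hx).map Φ).eq_zero
    obtain ⟨b, s, rfl⟩ := IsLocalization.exists_mk'_eq q.primeCompl x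
    have h0 : algebraMap T' T (φ b) = 0 := by
      rw [← hΦ, ← IsLocalization.mk'_spec (Localization.AtPrime q) b s, map_mul, RingHom.mem_ker.mp hx,
        zero_mul]
    have hb : IsNilpotent (algebraMap B (Localization.AtPrime q) b) :=
      (show IsNilpotent b from hker.le ((map_eq_zero_iff _ hinj).mp h0)).map _
    rw [mem_nilradical, IsLocalization.mk'_eq_mul_mk'_one]
    exact Commute.isNilpotent_mul_right (Commute.all _ _) hb
  have hbir' : ∀ t, ∃ a b, Φ b ≠ 0 ∧ t * Φ b = Φ a := fun t ↦ by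
    obtain ⟨x, ⟨_, s, hs, rfl⟩, rfl⟩ := IsLocalization.exists_mk'_eq M t
    obtain ⟨a, b, hb, hab⟩ := hbir x
    refine ⟨algebraMap B _ a, algebraMap B _ (b * s), ?_, ?_⟩
    · rw [hΦ, map_mul φ, map_mul]
      exact mul_ne_zero ((map_ne_zero_iff _ hinj).mpr hb) (hu ⟨s, hs⟩).ne_zero
    · rw [hΦ, hΦ, map_mul φ, map_mul, mul_left_comm, ← hab, map_mul, mul_comm (algebraMap T' T x)]
      exact congrArg _ (IsLocalization.mk'_spec T x (⟨φ s, s, hs, rfl⟩ : M))
  rw [isGeomUnibranch_iff_of_normal Φ hker' hΦint hbir']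
  -- primes over `q` are the maximal ideals of `T`
  have hover : ∀ P : Ideal T, P.IsMaximal → (P.comap (algebraMap T' T)).comap φ = q := fun P hP ↦ by
    haveI : (P.comap Φ).IsMaximal := Ideal.isMaximal_comap_of_isIntegral_of_isMaximal' Φ hΦint P
    rw [Ideal.comap_comap, show (algebraMap T' T).comp φ = Φ.comp (algebraMap B _) from
      RingHom.ext fun b ↦ (hΦ b).symm, ← Ideal.comap_comap, eq_maximalIdeal this]
    exact IsLocalization.AtPrime.under_maximalIdeal _ q
  have hdisj : ∀ Q : Ideal T', Q.comap φ = q → Disjoint (M : Set T') (Q : Set T') := fun Q hQ ↦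
    Set.disjoint_left.mpr fun y ⟨s, hs, hsy⟩ hy ↦ hs (hQ.le (show φ s ∈ Q from hsy ▸ hy))
  have hmax : ∀ Q : Ideal T', Q.IsPrime → Q.comap φ = q → (Q.map (algebraMap T' T)).IsMaximal ∧
      (Q.map (algebraMap T' T)).comap (algebraMap T' T) = Q := fun Q hQ hQq ↦ by
    haveI := IsLocalization.isPrime_of_isPrime_disjoint M T Q hQ (hdisj Q hQq)
    have hc := IsLocalization.under_map_of_isPrime_disjoint M T hQ (hdisj Q hQq)
    refine ⟨?_, hc⟩
    refine Ideal.isMaximal_of_isIntegral_of_isMaximal_comap' Φ hΦint _ ?_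
    convert maximalIdeal.isMaximal (Localization.AtPrime q)
    have hp : ((Q.map (algebraMap T' T)).comap Φ).IsPrime := inferInstance
    refine le_antisymm (le_maximalIdeal hp.ne_top) fun z hz ↦ ?_
    obtain ⟨b, s, rfl⟩ := IsLocalization.exists_mk'_eq q.primeCompl z
    have hbq : b ∈ q := (IsLocalization.AtPrime.mk'_mem_maximal_iff _ q b s).mp hz
    rw [IsLocalization.mk'_eq_mul_mk'_one]
    refine Ideal.mul_mem_right _ _ ?_
    show Φ (algebraMap B _ b) ∈ Q.map (algebraMap T' T)
    rw [hΦ]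
    exact Ideal.mem_map_of_mem _ (hQq.ge hbq)
  have hexp : ∀ (P : Ideal T) [P.IsMaximal], ringExpChar (T ⧸ P) = ringExpChar q.ResidueField := by
    intro P hP
    letI := Ideal.Quotient.field P
    haveI : (P.comap Φ).IsMaximal := Ideal.isMaximal_comap_of_isIntegral_of_isMaximal' Φ hΦint P
    exact ringExpChar_eq (Ideal.Quotient.lift (maximalIdeal (Localization.AtPrime q))
      ((Ideal.Quotient.mk P).comp Φ) fun a ha ↦ Ideal.Quotient.eq_zero_iff_mem.mpr
        ((eq_maximalIdeal this).ge ha))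
  constructor
  · rintro ⟨_, h⟩
    refine ⟨fun Q Q' hQ hQ' hQq hQ'q ↦ ?_, fun Q hQ hQq x ↦ ?_⟩
    · rw [← (hmax Q hQ hQq).2, ← (hmax Q' hQ' hQ'q).2, eq_maximalIdeal (hmax Q hQ hQq).1,
        eq_maximalIdeal (hmax Q' hQ' hQ'q).1]
    · haveI := (hmax Q hQ hQq).1
      obtain ⟨n, z, hz⟩ := h (Q.map (algebraMap T' T)) (Ideal.Quotient.mk _ (algebraMap T' T x))
      obtain ⟨a, s, rfl⟩ := IsLocalization.exists_mk'_eq q.primeCompl z
      refine ⟨n, a, s, s.2, (hmax Q hQ hQq).2.le ?_⟩
      rw [hexp, ← map_pow] at hz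
      have h1 := congrArg (Ideal.Quotient.mk _ (algebraMap T' T (φ s)) * ·) hz
      rw [RingHom.comp_apply, ← map_mul, ← map_mul] at h1
      have h2 : algebraMap T' T (φ s) * Φ (IsLocalization.mk' _ a s) = algebraMap T' T (φ a) := by
        rw [← hΦ, ← hΦ, ← map_mul, IsLocalization.mk'_spec']
      rw [h2] at h1
      refine Ideal.mem_comap.mpr (Ideal.Quotient.eq.mp ?_ |> fun h' ↦ by rwa [map_sub, map_mul, map_pow])
      exact h1.symm
  · rintro ⟨huniq, hpi⟩
    refine ⟨?_, fun P hP y ↦ ?_⟩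
    · obtain ⟨P₀, hP₀⟩ := Ideal.exists_maximal T
      refine IsLocalRing.of_unique_max_ideal ⟨P₀, hP₀, fun P hP ↦ ?_⟩
      rw [← IsLocalization.map_under M T P, ← IsLocalization.map_under M T P₀]
      exact congrArg _ (huniq _ _ inferInstance inferInstance (hover P hP) (hover P₀ hP₀))
    · obtain ⟨t, rfl⟩ := Ideal.Quotient.mk_surjective y
      obtain ⟨x, ⟨_, d, hd, rfl⟩, rfl⟩ := IsLocalization.exists_mk'_eq M t
      obtain ⟨n, a, s, hs, h⟩ := hpi _ inferInstance (hover P hP) x
      rw [hexp]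
      set N := ringExpChar q.ResidueField ^ n
      refine ⟨n, IsLocalization.mk' _ a (⟨s * d ^ N, q.primeCompl.mul_mem hs
        (pow_mem hd N)⟩ : q.primeCompl), ?_⟩
      set v := IsLocalization.mk' T x (⟨φ d, d, hd, rfl⟩ : M)
      show Ideal.Quotient.mk P (Φ (IsLocalization.mk' _ a _)) = (Ideal.Quotient.mk P v) ^ N
      rw [← map_pow]
      refine (((hu ⟨s * d ^ N, q.primeCompl.mul_mem hs (pow_mem hd N)⟩).map
        (Ideal.Quotient.mk P))).mul_left_injective ?_
      show _ * Ideal.Quotient.mk P (algebraMap T' T (φ (s * d ^ N))) = _ * _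
      rw [← map_mul, ← map_mul, ← hΦ, ← map_mul, IsLocalization.mk'_spec, hΦ, hΦ, Ideal.Quotient.eq]
      have hv : v * algebraMap T' T (φ d) = algebraMap T' T x := IsLocalization.mk'_spec T x _
      have : algebraMap T' T (φ a) - v ^ N * algebraMap T' T (φ (s * d ^ N)) =
          -(algebraMap T' T (φ s * x ^ N - φ a)) := by
        simp only [map_mul, map_pow, map_sub, ← hv]
        ring
      rw [this]
      exact P.neg_mem h

end

end GrothLib.GeomUnib
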