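import Groth.Agent.Lib.GeomUnib.Polynomial
import Mathlib.AlgebraicGeometry.AffineSpace

/-! # Affine space over a geometrically unibranch point -/

set_option autoImplicit false
set_option backward.isDefEq.respectTransparency false

universe u

open CategoryTheory CategoryTheory.Limits AlgebraicGeometry

namespace GrothLib.GeomUnib

theorem isGeomUnibranch_stalk_spec_iff {R : CommRingCat.{u}} (w : Spec R) :
    CAlg2.IsGeomUnibranch ((Spec R).presheaf.stalk w) ↔
      CAlg2.IsGeomUnibranch (Localization.AtPrime w.asIdeal) :=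
  ⟨GrothLib.BrnchNhd.isGeomUnibranch_of_ringEquiv (StructureSheaf.stalkIso R w).toRingEquiv.symm,
    GrothLib.BrnchNhd.isGeomUnibranch_of_ringEquiv (StructureSheaf.stalkIso R w).toRingEquiv⟩

theorem isGeomUnibranch_stalk_openImmersion_iff {X Y : Scheme.{u}} (j : X ⟶ Y) [IsOpenImmersion j]
    (w : X) : CAlg2.IsGeomUnibranch (Y.presheaf.stalk (j w)) ↔
      CAlg2.IsGeomUnibranch (X.presheaf.stalk w) :=
  ⟨GrothLib.BrnchNhd.isGeomUnibranch_of_ringEquiv (asIso (j.stalkMap w)).commRingCatIsoToRingEquiv,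
    GrothLib.BrnchNhd.isGeomUnibranch_of_ringEquiv
      (asIso (j.stalkMap w)).commRingCatIsoToRingEquiv.symm⟩

theorem isGeomUnibranch_stalk_affineSpace {Y : Scheme.{u}} (n : ℕ) (y' : ↥𝔸(ULift.{u} (Fin n); Y))
    (hy : CAlg2.IsGeomUnibranch (Y.presheaf.stalk ((𝔸(ULift.{u} (Fin n); Y) ↘ Y).base y'))) :
    CAlg2.IsGeomUnibranch ((𝔸(ULift.{u} (Fin n); Y)).presheaf.stalk y') := by
  obtain ⟨_, ⟨U, hU, rfl⟩, hyU, -⟩ :=
    Y.isBasis_affineOpens.exists_subset_of_mem_open
      (Set.mem_univ ((𝔸(ULift.{u} (Fin n); Y) ↘ Y).base y')) isOpen_univ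
  let R := Γ(Y, U)
  have hpb := AffineSpace.isPullback_map (n := ULift.{u} (Fin n)) hU.fromSpec
  haveI : IsOpenImmersion (AffineSpace.map (ULift.{u} (Fin n)) hU.fromSpec) :=
    MorphismProperty.of_isPullback hpb.flip (inferInstance : IsOpenImmersion hU.fromSpec)
  let e : MvPolynomial (ULift.{u} (Fin n)) R ≃+* MvPolynomial (Fin n) R :=
    (MvPolynomial.renameEquiv R Equiv.ulift).toRingEquiv
  let E : Spec (CommRingCat.of (MvPolynomial (Fin n) R)) ⟶
      Spec (CommRingCat.of (MvPolynomial (ULift.{u} (Fin n)) R)) := Spec.map (CommRingCat.ofHom e.toRingHom)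
  haveI : IsIso (CommRingCat.ofHom e.toRingHom) := e.toCommRingCatIso.isIso_hom
  let j := E ≫ (AffineSpace.SpecIso (ULift.{u} (Fin n)) R).inv ≫ AffineSpace.map _ hU.fromSpec
  have hj : j ≫ (𝔸(ULift.{u} (Fin n); Y) ↘ Y) =
      Spec.map (CommRingCat.ofHom (MvPolynomial.C : R →+* MvPolynomial (Fin n) R)) ≫ hU.fromSpec := by
    simp only [j, E, Category.assoc, AffineSpace.map_over, AffineSpace.SpecIso_inv_over_assoc,
      ← Spec.map_comp_assoc]
    congr 2
    refine CommRingCat.hom_ext (RingHom.ext fun a ↦ ?_)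
    exact MvPolynomial.rename_C (R := ↑R) Equiv.ulift a
  obtain ⟨s, hs⟩ : (𝔸(ULift.{u} (Fin n); Y) ↘ Y).base y' ∈ Set.range hU.fromSpec := by
    rw [hU.range_fromSpec]; exact hyU
  obtain ⟨z, hz⟩ := Scheme.Pullback.exists_preimage_pullback
    (f := (𝔸(ULift.{u} (Fin n); Y) ↘ Y)) (g := hU.fromSpec) y' s hs.symm
  obtain ⟨w, hw⟩ : ∃ w, j w = y' := by
    refine ⟨(inv E) ((AffineSpace.SpecIso (ULift.{u} (Fin n)) R).hom (hpb.isoPullback.inv z)), ?_⟩
    have : (inv E ≫ j) = (AffineSpace.SpecIso (ULift.{u} (Fin n)) R).inv ≫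
        AffineSpace.map _ hU.fromSpec := by simp [j]
    rw [← Scheme.Hom.comp_apply, this, ← Scheme.Hom.comp_apply, Iso.hom_inv_id_assoc,
      ← Scheme.Hom.comp_apply, IsPullback.isoPullback_inv_fst]
    exact hz.1
  subst hw
  rw [isGeomUnibranch_stalk_openImmersion_iff, isGeomUnibranch_stalk_spec_iff]
  refine isGeomUnibranch_mvPolynomial n w.asIdeal ?_
  rw [← Scheme.Hom.comp_apply, hj, Scheme.Hom.comp_apply,
    isGeomUnibranch_stalk_openImmersion_iff, isGeomUnibranch_stalk_spec_iff] at hy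
  exact hy

end GrothLib.GeomUnib
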