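import Groth.Agent.Lib.GeomUnib.Criterion
import Groth.Agent.Lib.BrnchNhd.Equiv
import Groth.Agent.Lib.JacobsonDescent.Basic

/-! # Polynomial rings over geometrically unibranch rings -/

set_option autoImplicit false
set_option backward.isDefEq.respectTransparency false

universe u

open IsLocalRing MvPolynomial

namespace GrothLib.GeomUnib

attribute [local instance] MvPolynomial.algebraMvPolynomial

theorem isGeomUnibranch_mvPolynomial_of_normal {A N : Type u} [CommRing A] [IsLocalRing A] [CommRing N]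
    [IsDomain N] [IsLocalRing N] [IsIntegrallyClosed N] (ι : A →+* N) (hι : ι.IsIntegral)
    (hι0 : ∀ a, ι a = 0 ↔ a ∈ nilradical A) (hbir₀ : ∀ c, ∃ a b, ι b ≠ 0 ∧ c * ι b = ι a)
    (hp : ∀ x : N ⧸ maximalIdeal N, ∃ k : ℕ,
      x ^ ringExpChar (N ⧸ maximalIdeal N) ^ k ∈ ((Ideal.Quotient.mk (maximalIdeal N)).comp ι).range)
    (n : ℕ) (q : Ideal (MvPolynomial (Fin n) A)) [q.IsPrime] (hq : q.comap C = maximalIdeal A) :
    CAlg2.IsGeomUnibranch (Localization.AtPrime q) := by
  haveI : IsIntegrallyClosed (MvPolynomial (Fin n) N) :=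
    GrothLib.JacobsonDescent.isIntegrallyClosed_mvPolynomial N n
  let φ : MvPolynomial (Fin n) A →+* MvPolynomial (Fin n) N := MvPolynomial.map ι
  have hker : RingHom.ker φ = nilradical (MvPolynomial (Fin n) A) := by
    ext x
    rw [RingHom.mem_ker, mem_nilradical, MvPolynomial.isNilpotent_iff, MvPolynomial.ext_iff]
    refine forall_congr' fun d ↦ ?_
    rw [show φ x = MvPolynomial.map ι x from rfl, MvPolynomial.coeff_map, MvPolynomial.coeff_zero, hι0]
    exact mem_nilradical
  have hint : @RingHom.IsIntegral (MvPolynomial (Fin n) A) (MvPolynomial (Fin n) N) _ _ φ := by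
    intro x
    induction x using MvPolynomial.induction_on with
    | C c =>
      obtain ⟨P, hm, hP⟩ := hι c
      refine ⟨P.map (C : A →+* MvPolynomial (Fin n) A), hm.map _, ?_⟩
      rw [Polynomial.eval₂_map, show φ.comp (C : A →+* _) = (C : N →+* _).comp ι from
        RingHom.ext fun a ↦ MvPolynomial.map_C ι a, ← Polynomial.hom_eval₂, hP, map_zero]
    | add a b ha hb =>
      exact @RingHom.IsIntegralElem.add (MvPolynomial (Fin n) A) (MvPolynomial (Fin n) N) _ _ φ a b ha hb
    | mul_X a i ha =>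
      refine @RingHom.IsIntegralElem.mul (MvPolynomial (Fin n) A) (MvPolynomial (Fin n) N) _ _ φ a _ ha ?_
      rw [← MvPolynomial.map_X ι i]
      exact φ.isIntegralElem_map
  have hbir : ∀ t, ∃ a b, φ b ≠ 0 ∧ t * φ b = φ a := by
    suffices ∀ t, ∃ (a : MvPolynomial (Fin n) A) (b : A), ι b ≠ 0 ∧ t * C (ι b) = φ a by
      intro t
      obtain ⟨a, b, hb, hab⟩ := this t
      refine ⟨a, C b, ?_, ?_⟩
      · rw [show φ (C b) = C (ι b) from MvPolynomial.map_C ι b]
        exact (map_ne_zero_iff _ (MvPolynomial.C_injective (Fin n) N)).mpr hb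
      · rw [show φ (C b) = C (ι b) from MvPolynomial.map_C ι b, hab]
    intro t
    induction t using MvPolynomial.induction_on with
    | C c =>
      obtain ⟨a, b, hb, hab⟩ := hbir₀ c
      refine ⟨C a, b, hb, ?_⟩
      rw [show φ (C a) = C (ι a) from MvPolynomial.map_C ι a, ← map_mul, hab]
    | add x y hx hy =>
      obtain ⟨a, b, hb, ha⟩ := hx
      obtain ⟨c, d, hd, hc⟩ := hy
      refine ⟨a * C d + c * C b, b * d, by rw [map_mul]; exact mul_ne_zero hb hd, ?_⟩
      rw [map_add φ, map_mul φ, map_mul φ, show φ (C d) = C (ι d) from MvPolynomial.map_C ι d,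
        show φ (C b) = C (ι b) from MvPolynomial.map_C ι b, ← ha, ← hc, map_mul, map_mul]
      ring
    | mul_X x i hx =>
      obtain ⟨a, b, hb, ha⟩ := hx
      refine ⟨a * X i, b, hb, ?_⟩
      rw [map_mul φ, show φ (X i) = X i from MvPolynomial.map_X ι i, ← ha]
      ring
  rw [isGeomUnibranch_localization_iff (B := MvPolynomial (Fin n) A) (T' := MvPolynomial (Fin n) N) φ hker hint hbir q]
  -- the residue field of the normalization
  set p := ringExpChar q.ResidueField
  let J : Ideal (MvPolynomial (Fin n) N) := (maximalIdeal N).map C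
  have hJ : ∀ Q : Ideal (MvPolynomial (Fin n) N), Q.IsPrime → Q.comap φ = q → J ≤ Q := by
    intro Q hQ hQq
    have hm : (Q.comap (C : N →+* _)).IsMaximal := by
      refine Ideal.isMaximal_of_isIntegral_of_isMaximal_comap' ι hι _ ?_
      convert maximalIdeal.isMaximal A
      rw [← hq, ← hQq, Ideal.comap_comap, Ideal.comap_comap]
      exact congrArg (fun f ↦ Ideal.comap f Q) (RingHom.ext fun a ↦ (MvPolynomial.map_C ι a).symm)
    exact Ideal.map_le_iff_le_comap.mpr (eq_maximalIdeal hm).ge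
  have hpN : ringExpChar (N ⧸ maximalIdeal N) = p := by
    letI := Ideal.Quotient.field (maximalIdeal N)
    haveI : ((maximalIdeal N).comap ι).IsMaximal :=
      Ideal.isMaximal_comap_of_isIntegral_of_isMaximal' ι hι (maximalIdeal N)
    have h1 := ringExpChar_eq (k₁ := ResidueField A) (k₂ := N ⧸ maximalIdeal N) (Ideal.Quotient.lift (maximalIdeal A)
      ((Ideal.Quotient.mk (maximalIdeal N)).comp ι) fun a ha ↦ Ideal.Quotient.eq_zero_iff_mem.mpr
        ((eq_maximalIdeal this).ge ha) : ResidueField A →+* N ⧸ maximalIdeal N)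
    refine h1.trans (ringExpChar_eq (k₁ := ResidueField A) (k₂ := q.ResidueField) (Ideal.Quotient.lift (maximalIdeal A)
      ((algebraMap (MvPolynomial (Fin n) A) q.ResidueField).comp C) fun a ha ↦
        Ideal.algebraMap_residueField_eq_zero.mpr (hq.ge ha) : ResidueField A →+* q.ResidueField)).symm
  have hrad : ∀ x, ∃ (k : ℕ) (a : MvPolynomial (Fin n) A), x ^ p ^ k - φ a ∈ J := by
    letI := Ideal.Quotient.field (maximalIdeal N)
    let g : N ⧸ maximalIdeal N →+* MvPolynomial (Fin n) N ⧸ J :=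
      Ideal.quotientMap J C Ideal.le_comap_map
    by_cases hne : Nontrivial (MvPolynomial (Fin n) N ⧸ J)
    swap
    · exact fun x ↦ ⟨0, 0, by
        haveI := not_nontrivial_iff_subsingleton.mp hne
        exact Ideal.Quotient.eq_zero_iff_mem.mp (Subsingleton.elim _ _)⟩
    haveI : ExpChar (MvPolynomial (Fin n) N ⧸ J) p := hpN ▸ expChar_of_injective_ringHom g.injective _
    let π := (Ideal.Quotient.mk J).comp φ
    suffices ∀ x, ∃ k : ℕ, Ideal.Quotient.mk J x ^ p ^ k ∈ π.range from fun x ↦ by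
      obtain ⟨k, a, ha⟩ := this x
      exact ⟨k, a, Ideal.Quotient.eq.mp (by rw [map_pow]; exact ha.symm)⟩
    intro x
    have up : ∀ (y : MvPolynomial (Fin n) N ⧸ J) (k l : ℕ), k ≤ l → y ^ p ^ k ∈ π.range →
        y ^ p ^ l ∈ π.range := fun y k l hkl hy ↦ by
      rw [← Nat.add_sub_cancel' hkl, pow_add, pow_mul]
      exact pow_mem hy _
    induction x using MvPolynomial.induction_on with
    | C c =>
      obtain ⟨k, a, ha⟩ := hp (Ideal.Quotient.mk _ c)
      refine ⟨k, C a, ?_⟩
      rw [hpN, ← map_pow] at ha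
      have := congrArg g ha
      rw [show π (C a) = Ideal.Quotient.mk J (φ (C a)) from rfl,
        show φ (C a) = C (ι a) from MvPolynomial.map_C ι a, ← map_pow, ← map_pow]
      exact this
    | add x y hx hy =>
      obtain ⟨k, hk⟩ := hx
      obtain ⟨l, hl⟩ := hy
      refine ⟨max k l, ?_⟩
      rw [map_add, add_pow_expChar_pow]
      exact add_mem (up _ k _ (le_max_left _ _) hk) (up _ l _ (le_max_right _ _) hl)
    | mul_X x i hx =>
      obtain ⟨k, hk⟩ := hx
      refine ⟨k, ?_⟩
      rw [map_mul, mul_pow]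
      refine mul_mem hk ?_
      have hX : Ideal.Quotient.mk J (X i) ∈ π.range :=
        ⟨X i, congrArg (Ideal.Quotient.mk J) (MvPolynomial.map_X ι i)⟩
      exact pow_mem hX _
  refine ⟨fun Q Q' hQ hQ' hQq hQ'q ↦ ?_, fun Q hQ hQq x ↦ ?_⟩
  · suffices ∀ Q Q' : Ideal _, Q.IsPrime → Q'.IsPrime → Q.comap φ = q → Q'.comap φ = q → Q ≤ Q' from
      le_antisymm (this Q Q' hQ hQ' hQq hQ'q) (this Q' Q hQ' hQ hQ'q hQq)
    intro Q Q' hQ hQ' hQq hQ'q x hx
    obtain ⟨k, a, ha⟩ := hrad x
    have hpos : 0 < p ^ k := by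
      haveI : ExpChar q.ResidueField p := ringExpChar.expChar q.ResidueField
      exact pow_pos (expChar_pos q.ResidueField p) k
    have h1 : φ a ∈ Q := by
      have := Q.sub_mem (Ideal.pow_mem_of_mem Q hx _ hpos) (hJ Q hQ hQq ha)
      rwa [sub_sub_cancel] at this
    have h2 : φ a ∈ Q' := hQ'q.ge (hQq.le h1)
    refine hQ'.mem_of_pow_mem (p ^ k) ?_
    have := Q'.add_mem (hJ Q' hQ' hQ'q ha) h2
    rwa [sub_add_cancel] at this
  · obtain ⟨k, a, ha⟩ := hrad x
    refine ⟨k, a, 1, fun h ↦ ‹q.IsPrime›.ne_top ((Ideal.eq_top_iff_one _).mpr h), ?_⟩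
    rw [map_one, one_mul]
    exact hJ Q hQ hQq ha

theorem isGeomUnibranch_mvPolynomial_local {A : Type u} [CommRing A] [IsLocalRing A]
    (h : CAlg2.IsGeomUnibranch A) (n : ℕ) (q : Ideal (MvPolynomial (Fin n) A)) [q.IsPrime]
    (hq : q.comap C = maximalIdeal A) : CAlg2.IsGeomUnibranch (Localization.AtPrime q) := by
  obtain ⟨⟨hd, hl⟩, hp⟩ := h
  haveI := hd
  haveI := hl
  haveI : IsIntegrallyClosed (CAlg2.normRed A) :=
    integralClosure.isIntegrallyClosedOfFiniteExtension (FractionRing (CAlg2.red A))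
  have hDN : Function.Injective (algebraMap (CAlg2.red A) (CAlg2.normRed A)) := fun x y h ↦
    IsFractionRing.injective (CAlg2.red A) (FractionRing (CAlg2.red A)) (congrArg Subtype.val h :)
  refine isGeomUnibranch_mvPolynomial_of_normal
    ((algebraMap (CAlg2.red A) (CAlg2.normRed A)).comp (Ideal.Quotient.mk (nilradical A)))
    (RingHom.IsIntegral.trans _ _ (RingHom.isIntegral_of_surjective _ Ideal.Quotient.mk_surjective)
      (algebraMap_isIntegral_iff.mpr inferInstance))
    (fun a ↦ (map_eq_zero_iff _ hDN).trans Ideal.Quotient.eq_zero_iff_mem) (fun c ↦ ?_)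
    (hp _) n q hq
  obtain ⟨⟨a, d⟩, hd⟩ := IsLocalization.surj (nonZeroDivisors (CAlg2.red A))
    (c : FractionRing (CAlg2.red A))
  obtain ⟨a₀, rfl⟩ := Ideal.Quotient.mk_surjective a
  obtain ⟨d₀, hd₀⟩ := Ideal.Quotient.mk_surjective (d : CAlg2.red A)
  refine ⟨a₀, d₀, ?_, Subtype.ext ?_⟩
  · show algebraMap (CAlg2.red A) (CAlg2.normRed A) (Ideal.Quotient.mk _ d₀) ≠ 0
    rw [hd₀]
    exact (map_ne_zero_iff _ hDN).mpr (nonZeroDivisors.coe_ne_zero d)
  · show (c : FractionRing (CAlg2.red A)) * algebraMap _ _ (Ideal.Quotient.mk _ d₀) =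
      algebraMap _ _ (Ideal.Quotient.mk _ a₀)
    rw [hd₀]
    exact hd

theorem isGeomUnibranch_mvPolynomial {A : Type u} [CommRing A] (n : ℕ)
    (q : Ideal (MvPolynomial (Fin n) A)) [q.IsPrime]
    (h : CAlg2.IsGeomUnibranch (Localization.AtPrime (q.comap (C : A →+* _)))) :
    CAlg2.IsGeomUnibranch (Localization.AtPrime q) := by
  set p := q.comap (C : A →+* MvPolynomial (Fin n) A)
  let A' := Localization.AtPrime p
  let M : Submonoid (MvPolynomial (Fin n) A) := p.primeCompl.map (C : A →+* _)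
  have hdisj : Disjoint (M : Set (MvPolynomial (Fin n) A)) (q : Set (MvPolynomial (Fin n) A)) :=
    Set.disjoint_left.mpr fun y ⟨s, hs, hsy⟩ hy ↦ hs (show C s ∈ q from hsy ▸ hy)
  set q' := q.map (algebraMap (MvPolynomial (Fin n) A) (MvPolynomial (Fin n) A'))
  haveI : q'.IsPrime := IsLocalization.isPrime_of_isPrime_disjoint M _ q ‹_› hdisj
  have hc : q'.comap (algebraMap (MvPolynomial (Fin n) A) _) = q :=
    IsLocalization.under_map_of_isPrime_disjoint M _ ‹_› hdisj
  have hq' : q'.comap (C : A' →+* _) = maximalIdeal A' := by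
    rw [← IsLocalization.map_under p.primeCompl A' (q'.comap (C : A' →+* _)),
      ← Localization.AtPrime.map_eq_maximalIdeal]
    refine congrArg _ (SetLike.ext fun a ↦ ?_)
    show C (algebraMap A A' a) ∈ q' ↔ C a ∈ q
    conv_rhs => rw [show C a ∈ q ↔ C a ∈ q'.comap (algebraMap (MvPolynomial (Fin n) A) _) from by rw [hc]]
    rw [Ideal.mem_comap, MvPolynomial.algebraMap_def, MvPolynomial.map_C]
  haveI : (q'.comap (algebraMap (MvPolynomial (Fin n) A) _)).IsPrime := inferInstance
  have := isGeomUnibranch_mvPolynomial_local (A := A') h n q' hq'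
  haveI hl : IsLocalization.AtPrime (Localization.AtPrime q') q := by
    have := IsLocalization.isLocalization_isLocalization_atPrime_isLocalization M
      (Localization.AtPrime q') q'
    simp only [hc] at this
    exact this
  exact GrothLib.BrnchNhd.isGeomUnibranch_of_ringEquiv
    (IsLocalization.algEquiv q.primeCompl (Localization.AtPrime q') (Localization.AtPrime q)).toRingEquiv this

end GrothLib.GeomUnib
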