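import Groth.Agent.Lib.GeomUnib.Smooth
import Groth.Agent.Lib.Hensel.StrictBase
import Mathlib.RingTheory.TensorProduct.Quotient

/-! # Primes stay prime in strict henselizations of smooth algebras -/

set_option autoImplicit false
set_option backward.isDefEq.respectTransparency false

universe u

open IsLocalRing TensorProduct

namespace GrothLib.GeomUnib

attribute [local instance] Algebra.TensorProduct.rightAlgebra

/-- Strict henselization and quotients. -/
theorem isDomain_quotient_strictHenselization {A S : Type u} [CommRing A] [IsLocalRing A]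
    [CommRing S] [IsLocalRing S] [Algebra A S] [IsLocalHom (algebraMap A S)]
    [_root_.Hensel.IsStrictHenselization A S] (J : Ideal A) (hJ : J ≠ ⊤)
    [IsLocalRing (A ⧸ J)] [IsDomain (A ⧸ J)] (h : CAlg2.IsGeomUnibranch (A ⧸ J)) :
    IsDomain (S ⧸ J.map (algebraMap A S)) := by
  haveI : IsLocalHom (algebraMap A (A ⧸ J)) := IsLocalHom.of_surjective _ Ideal.Quotient.mk_surjective
  let e : (S ⧸ J.map (algebraMap A S)) ≃+* (A ⧸ J) ⊗[A] S :=
    (Algebra.TensorProduct.quotIdealMapEquivQuotTensor S J).toRingEquiv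
  have hJS : J.map (algebraMap A S) ≠ ⊤ := fun htop ↦ (maximalIdeal.isMaximal S).ne_top
    (eq_top_mono ((Ideal.map_mono (le_maximalIdeal hJ)).trans
      (((local_hom_TFAE (algebraMap A S)).out 0 2 rfl rfl).mp inferInstance)) htop)
  haveI : Nontrivial (S ⧸ J.map (algebraMap A S)) := Ideal.Quotient.nontrivial_iff.mpr hJS
  haveI : IsLocalRing (S ⧸ J.map (algebraMap A S)) :=
    IsLocalRing.of_surjective' _ Ideal.Quotient.mk_surjective
  haveI : IsLocalRing ((A ⧸ J) ⊗[A] S) := e.isLocalRing
  obtain ⟨hl, hs⟩ := GrothLib.Hensel.isStrictHenselization_localization_tensor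
    (A := A) (B := A ⧸ J) (S := S) (maximalIdeal ((A ⧸ J) ⊗[A] S))
  haveI : IsDomain (Localization.AtPrime (maximalIdeal ((A ⧸ J) ⊗[A] S))) :=
    (GrothLib.Hensel.IsStrictHenselization.isDomain_iff (A := A ⧸ J)
      (S := Localization.AtPrime (maximalIdeal ((A ⧸ J) ⊗[A] S)))).mp ⟨inferInstance, h⟩
  haveI : IsDomain ((A ⧸ J) ⊗[A] S) :=
    (IsLocalization.atUnits ((A ⧸ J) ⊗[A] S) (maximalIdeal ((A ⧸ J) ⊗[A] S)).primeCompl
      (S := Localization.AtPrime (maximalIdeal ((A ⧸ J) ⊗[A] S))) fun _ hx ↦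
        notMem_maximalIdeal.1 hx).toMulEquiv.isDomain _
  exact e.toMulEquiv.isDomain _

theorem prime_map_strictHenselization_of_smooth
    {R R' T : Type u} [CommRing R] [HenselianLocalRing R] [IsSepClosed (ResidueField R)]
    [CommRing R'] [Algebra R R'] [Algebra.Smooth R R']
    (q : Ideal R') [q.IsPrime] (hq : (maximalIdeal R).map (algebraMap R R') ≤ q)
    [CommRing T] [IsLocalRing T] [Algebra (Localization.AtPrime q) T]
    [IsLocalHom (algebraMap (Localization.AtPrime q) T)]
    [_root_.Hensel.IsStrictHenselization (Localization.AtPrime q) T]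
    (Δ : R) (hΔ : Prime Δ) :
    Prime (algebraMap (Localization.AtPrime q) T
      (algebraMap R' (Localization.AtPrime q) (algebraMap R R' Δ))) := by
  let A := Localization.AtPrime q
  haveI hqm : q.LiesOver (maximalIdeal R) :=
    ⟨((maximalIdeal.isMaximal R).eq_of_le (Ideal.comap_ne_top _ (Ideal.IsPrime.ne_top inferInstance))
      (Ideal.map_le_iff_le_comap.mp hq))⟩
  haveI : IsLocalHom (algebraMap R A) := ⟨fun x hx ↦ by
    rw [IsScalarTower.algebraMap_apply R R' A, IsLocalization.AtPrime.isUnit_to_map_iff A q] at hx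
    by_contra hu
    exact hx (hq (Ideal.mem_map_of_mem _ ((mem_maximalIdeal x).mpr hu)))⟩
  -- nonzero
  haveI : Module.Flat R A := Module.Flat.trans R R' A
  haveI : Module.Flat A T := GrothLib.Hensel.IsStrictHenselization.flat
  haveI : Module.FaithfullyFlat R A := Module.FaithfullyFlat.of_flat_of_isLocalHom
  haveI : Module.FaithfullyFlat A T := Module.FaithfullyFlat.of_flat_of_isLocalHom
  have hinj : Function.Injective ((algebraMap A T).comp (algebraMap R A)) :=
    (FaithfulSMul.algebraMap_injective A T).comp (FaithfulSMul.algebraMap_injective R A)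
  have hne : algebraMap A T (algebraMap R A Δ) ≠ 0 := fun h ↦
    hΔ.ne_zero (hinj (h.trans (map_zero _).symm))
  -- the quotient
  let I : Ideal R := Ideal.span {Δ}
  haveI : I.IsPrime := (Ideal.span_singleton_prime hΔ.ne_zero).mpr hΔ
  haveI : IsLocalRing (R ⧸ I) := IsLocalRing.of_surjective' _ Ideal.Quotient.mk_surjective
  haveI : IsLocalHom (algebraMap R (R ⧸ I)) := IsLocalHom.of_surjective _ Ideal.Quotient.mk_surjective
  haveI : Algebra.IsIntegral R (R ⧸ I) :=
    Algebra.IsIntegral.of_surjective (Algebra.ofId R (R ⧸ I)) Ideal.Quotient.mk_surjective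
  haveI : HenselianLocalRing (R ⧸ I) := GrothLib.Hensel.henselianLocalRing_of_isIntegral_isLocalHom (R := R)
  haveI : Algebra.IsIntegral (ResidueField R) (ResidueField (R ⧸ I)) := by
    haveI : Algebra.IsIntegral R (ResidueField (R ⧸ I)) := Algebra.IsIntegral.of_surjective
      (IsScalarTower.toAlgHom R (R ⧸ I) (ResidueField (R ⧸ I))) residue_surjective
    exact Algebra.IsIntegral.tower_top R
  haveI : IsSepClosed (ResidueField (R ⧸ I)) := Algebra.IsAlgebraic.isSepClosed (F := ResidueField R)
  let J' : Ideal R' := I.map (algebraMap R R')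
  haveI : Algebra.Smooth (R ⧸ I) (R' ⧸ J') :=
    Algebra.Smooth.of_equiv (Algebra.TensorProduct.quotIdealMapEquivQuotTensor R' I).symm
  have hJq : J' ≤ q := le_trans (Ideal.map_mono (le_maximalIdeal (Ideal.IsPrime.ne_top inferInstance))) hq
  let qb : Ideal (R' ⧸ J') := q.map (Ideal.Quotient.mk J')
  haveI : qb.IsPrime := Ideal.map_isPrime_of_surjective Ideal.Quotient.mk_surjective (by
    rw [Ideal.mk_ker]; exact hJq)
  have hqb : qb.comap (Ideal.Quotient.mk J') = q := by
    rw [Ideal.comap_map_of_surjective _ Ideal.Quotient.mk_surjective, ← RingHom.ker_eq_comap_bot,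
      Ideal.mk_ker, sup_eq_left]
    exact hJq
  obtain ⟨hd, hg⟩ := isDomain_and_isGeomUnibranch_localization_of_smooth (R := R ⧸ I) (R' := R' ⧸ J') qb (by
    refine Ideal.map_le_iff_le_comap.mpr fun x hx ↦ ?_
    obtain ⟨r, rfl⟩ := Ideal.Quotient.mk_surjective x
    show Ideal.Quotient.mk J' (algebraMap R R' r) ∈ qb
    refine Ideal.mem_map_of_mem _ (hq (Ideal.mem_map_of_mem _ ?_))
    exact fun hu ↦ hx (hu.map _))
  let J : Ideal A := J'.map (algebraMap R' A)
  have hJ : J ≠ ⊤ := fun htop ↦ (maximalIdeal.isMaximal A).ne_top (eq_top_mono (by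
    rw [← Localization.AtPrime.map_eq_maximalIdeal]
    exact Ideal.map_mono hJq) htop)
  haveI : Nontrivial (A ⧸ J) := Ideal.Quotient.nontrivial_iff.mpr hJ
  haveI : IsLocalRing (A ⧸ J) := IsLocalRing.of_surjective' _ Ideal.Quotient.mk_surjective
  have hloc : IsLocalization.AtPrime (A ⧸ J) qb := by
    have h0 : IsLocalization (Algebra.algebraMapSubmonoid (R' ⧸ J') q.primeCompl) (A ⧸ J) := inferInstance
    have hs : Algebra.algebraMapSubmonoid (R' ⧸ J') q.primeCompl = qb.primeCompl := by
      ext x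
      obtain ⟨r, rfl⟩ := Ideal.Quotient.mk_surjective x
      refine ⟨fun ⟨s, hs, hsr⟩ h ↦ hs (hqb.le (show Ideal.Quotient.mk J' s ∈ qb from ?_)),
        fun h ↦ ⟨r, fun hr ↦ h (Ideal.mem_map_of_mem _ hr), rfl⟩⟩
      exact (show Ideal.Quotient.mk J' s = Ideal.Quotient.mk J' r from hsr).symm ▸ h
    rw [hs] at h0
    exact h0
  let ε : Localization.AtPrime qb ≃+* A ⧸ J :=
    (IsLocalization.algEquiv qb.primeCompl (Localization.AtPrime qb) (A ⧸ J)).toRingEquiv
  haveI : IsDomain (A ⧸ J) := ε.symm.toMulEquiv.isDomain _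
  have hdom := isDomain_quotient_strictHenselization (A := A) (S := T) J hJ
    (GrothLib.BrnchNhd.isGeomUnibranch_of_ringEquiv ε hg)
  have hspan : J.map (algebraMap A T) = Ideal.span {algebraMap A T (algebraMap R' A (algebraMap R R' Δ))} := by
    simp only [J, J', I, Ideal.map_span, Set.image_singleton]
  have hne' : algebraMap A T (algebraMap R' A (algebraMap R R' Δ)) ≠ 0 := by
    rw [← IsScalarTower.algebraMap_apply R R' A]
    exact hne
  rw [← Ideal.span_singleton_prime hne', ← hspan]
  exact (Ideal.Quotient.isDomain_iff_prime _).mp hdom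

end GrothLib.GeomUnib
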