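import Groth.Agent.Lib.GeomUnib.Criterion
import Groth.Agent.Lib.UHTower.Basic

/-! # Geometrically unibranch everywhere iff the normalization is radicial -/

set_option autoImplicit false
set_option backward.isDefEq.respectTransparency false

universe u

open IsLocalRing

namespace GrothLib.GeomUnib

variable {B T' : Type u} [CommRing B] [CommRing T'] [IsDomain T'] [IsIntegrallyClosed T'] {φ : B →+* T'}

theorem forall_isGeomUnibranch_iff_radic (hker : RingHom.ker φ = nilradical B) (hint : φ.IsIntegral)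
    (hbir : ∀ t, ∃ a b, φ b ≠ 0 ∧ t * φ b = φ a) :
    (∀ (q : Ideal B) [q.IsPrime], CAlg2.IsGeomUnibranch (Localization.AtPrime q)) ↔
      GrothLib.UHTower.Radic φ := by
  constructor
  · intro h
    have key : ∀ (Q : Ideal T') [Q.IsPrime], _ := fun Q _ ↦
      (isGeomUnibranch_localization_iff φ hker hint hbir (Q.comap φ)).mp (h _)
    refine GrothLib.UHTower.radic_of_pires (fun Q Q' e ↦ PrimeSpectrum.ext ?_) fun Q hQ b ↦ ?_
    · exact (key Q.asIdeal).1 _ _ inferInstance inferInstance rfl
        (congrArg PrimeSpectrum.asIdeal e).symm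
    · obtain ⟨n, a, s, hs, ha⟩ := (key Q).2 Q hQ rfl b
      refine ⟨_, s, a, hs, ha, ?_⟩
      obtain ⟨e, he⟩ := ExpChar.exists (Q.comap φ).ResidueField
      rw [ringExpChar.eq (Q.comap φ).ResidueField e]
      cases he with
      | zero => exact Or.inl (one_pow _)
      | prime hp =>
        refine Or.inr ⟨e, n, hp, rfl, ?_⟩
        have h0 : algebraMap B (Q.comap φ).ResidueField (e : B) = 0 := by
          rw [map_natCast]; exact CharP.cast_eq_zero _ _
        have := Ideal.algebraMap_residueField_eq_zero.1 h0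
        rwa [Ideal.mem_comap, map_natCast] at this
  · intro h q _
    rw [isGeomUnibranch_localization_iff φ hker hint hbir q]
    refine ⟨fun Q Q' hQ hQ' e e' ↦ ?_, fun Q hQ e x ↦ ?_⟩
    · exact congrArg PrimeSpectrum.asIdeal (h.injComap (a₁ := ⟨Q, hQ⟩) (a₂ := ⟨Q', hQ'⟩)
        (PrimeSpectrum.ext (e.trans e'.symm)))
    · subst e
      obtain ⟨N, s, a, hs, ha, hN⟩ := h.pires Q x
      rcases hN with rfl | ⟨ℓ, n, hℓ, rfl, hℓQ⟩
      · exact ⟨0, a, s, hs, by rwa [pow_zero]⟩
      · refine ⟨n, a, s, hs, ?_⟩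
        haveI : Fact ℓ.Prime := ⟨hℓ⟩
        haveI : CharP (Q.comap φ).ResidueField ℓ := (CharP.charP_iff_prime_eq_zero hℓ).2 (by
          have := (Ideal.algebraMap_residueField_eq_zero (I := Q.comap φ) (x := (ℓ : B))).2
            (by rwa [Ideal.mem_comap, map_natCast])
          rwa [map_natCast] at this)
        haveI : ExpChar (Q.comap φ).ResidueField ℓ := ExpChar.prime hℓ
        rwa [ringExpChar.eq (Q.comap φ).ResidueField ℓ]

end GrothLib.GeomUnib
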