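import Groth.Agent.Lib.GeomUnib.Affine
import Groth.Agent.Lib.BrnchNhd.Ascend
import Groth.Agent.Lib.Hensel.TensorIntegral
import Mathlib.RingTheory.Unramified.LocalStructure
import Mathlib.AlgebraicGeometry.Morphisms.Etale

/-! # Smooth algebras over strictly henselian domains -/

set_option autoImplicit false
set_option backward.isDefEq.respectTransparency false

universe u

open IsLocalRing CategoryTheory AlgebraicGeometry

namespace GrothLib.GeomUnib

theorem isStrictHenselization_self (R : Type u) [CommRing R] [HenselianLocalRing R]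
    [IsSepClosed (ResidueField R)] [IsLocalHom (algebraMap R R)] :
    _root_.Hensel.IsStrictHenselization R R :=
  ⟨inferInstance, GrothLib.Hensel.isSepClosure_of_surjective fun x ↦ by
      obtain ⟨a, rfl⟩ := residue_surjective x
      exact ⟨residue R a, rfl⟩, fun T _ _ f hf τ hτ ↦
    ⟨f, ⟨RingHom.ext fun _ ↦ rfl, fun x ↦ (RingHom.congr_fun hτ (residue R x)).symm⟩,
      fun g hg ↦ RingHom.ext fun x ↦ RingHom.congr_fun hg.1 x⟩⟩

theorem isGeomUnibranch_of_strictlyHenselian_domain (R : Type u) [CommRing R] [IsDomain R]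
    [HenselianLocalRing R] [IsSepClosed (ResidueField R)] : CAlg2.IsGeomUnibranch R :=
  haveI : IsLocalHom (algebraMap R R) := ⟨fun _ hx ↦ hx⟩
  haveI := isStrictHenselization_self R
  ((GrothLib.Hensel.IsStrictHenselization.isDomain_iff (A := R) (S := R)).mpr inferInstance).2

theorem isDomain_and_isGeomUnibranch_localization_of_smooth
    {R R' : Type u} [CommRing R] [IsDomain R] [HenselianLocalRing R] [IsSepClosed (ResidueField R)]
    [CommRing R'] [Algebra R R'] [Algebra.Smooth R R']
    (p : Ideal R') [p.IsPrime] (hp : (maximalIdeal R).map (algebraMap R R') ≤ p) :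
    IsDomain (Localization.AtPrime p) ∧ CAlg2.IsGeomUnibranch (Localization.AtPrime p) := by
  obtain ⟨f, hf, n, _, _, _⟩ := Algebra.IsSmoothAt.exists_isStandardEtale_mvPolynomial (R := R) (p := p)
  let S := Localization.Away f
  let q : Ideal S := p.map (algebraMap R' S)
  have hdisj := (Ideal.disjoint_powers_iff_notMem_of_isPrime (I := p) (y := f)).mpr hf
  haveI : q.IsPrime := IsLocalization.isPrime_of_isPrime_disjoint (.powers f) _ _ ‹_› hdisj
  have hc : q.comap (algebraMap R' S) = p :=
    IsLocalization.under_map_of_isPrime_disjoint (.powers f) _ ‹_› hdisj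
  let q₀ : Ideal (MvPolynomial (Fin n) R) := q.comap (algebraMap _ S)
  have hq₀ : q₀.comap MvPolynomial.C = maximalIdeal R := by
    refine le_antisymm (le_maximalIdeal (Ideal.comap_ne_top _ (Ideal.IsPrime.ne_top inferInstance))) fun a ha ↦ ?_
    show algebraMap (MvPolynomial (Fin n) R) S (MvPolynomial.C a) ∈ q
    rw [← MvPolynomial.algebraMap_eq, ← IsScalarTower.algebraMap_apply,
      IsScalarTower.algebraMap_apply R R' S]
    exact Ideal.mem_map_of_mem _ (hp (Ideal.mem_map_of_mem _ ha))
  have hgu := isGeomUnibranch_mvPolynomial_local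
    (isGeomUnibranch_of_strictlyHenselian_domain R) n q₀ hq₀
  let φ := Spec.map (CommRingCat.ofHom (algebraMap (MvPolynomial (Fin n) R) S))
  haveI : Etale φ := (HasRingHomProperty.Spec_iff (P := @Etale)).mpr
    (RingHom.etale_algebraMap.mpr inferInstance)
  let w : Spec (CommRingCat.of S) := ⟨q, inferInstance⟩
  let e₀ := (StructureSheaf.stalkIso (CommRingCat.of (MvPolynomial (Fin n) R)) (φ w)).toRingEquiv
  haveI : IsDomain (Localization.AtPrime q₀) :=
    IsLocalization.isDomain_localization q₀.primeCompl_le_nonZeroDivisors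
  haveI : IsDomain ((Spec (CommRingCat.of (MvPolynomial (Fin n) R))).presheaf.stalk (φ w)) :=
    e₀.symm.toMulEquiv.isDomain _
  obtain ⟨hd, hg⟩ := GrothLib.BrnchNhd.isDomain_and_isGeomUnibranch_of_etale φ w
    ((isGeomUnibranch_stalk_spec_iff _).mpr hgu)
  let e : Localization.AtPrime p ≃+* Localization.AtPrime q :=
    haveI : IsLocalization.AtPrime (Localization.AtPrime q) p := by
      have := IsLocalization.isLocalization_isLocalization_atPrime_isLocalization (.powers f)
        (Localization.AtPrime q) q
      simp only [hc] at this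
      exact this
    (IsLocalization.algEquiv p.primeCompl (Localization.AtPrime p) (Localization.AtPrime q)).toRingEquiv
  haveI := hd
  haveI : IsDomain (Localization.AtPrime q) :=
    MulEquiv.isDomain (B := (Spec (CommRingCat.of S)).presheaf.stalk w)
      (StructureSheaf.stalkIso (CommRingCat.of S) w).toRingEquiv.toMulEquiv
  exact ⟨e.toMulEquiv.isDomain _,
    GrothLib.BrnchNhd.isGeomUnibranch_of_ringEquiv e.symm ((isGeomUnibranch_stalk_spec_iff w).mp hg)⟩

end GrothLib.GeomUnib
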